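import Mathlib.RingTheory.Artinian.Module
import Mathlib.RingTheory.Artinian.Ring
import Mathlib.RingTheory.Trace.Basic
import Mathlib.RingTheory.TensorProduct.Free
import Mathlib.RingTheory.Localization.BaseChange
import Mathlib.RingTheory.LocalProperties.Reduced
import Mathlib.LinearAlgebra.Projection
import Mathlib.LinearAlgebra.Trace

/-!
The trace form of a reduced finite free algebra over a domain of characteristic zero has no kernel.
-/

set_option autoImplicit false
set_option linter.style.haveILetI false

universe u v

open scoped TensorProduct nonZeroDivisors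

namespace Groth.L04.TraceDeg

theorem eq_zero_of_trace_mul {K : Type u} {B : Type v} [Field K] [CharZero K] [CommRing B] [Algebra K B]
    [Module.Finite K B] [IsReduced B] (a : B) (h : ∀ x, Algebra.trace K B (a * x) = 0) : a = 0 := by
  classical
  haveI : IsArtinianRing B := isArtinian_of_tower K inferInstance
  let e := IsArtinianRing.equivPi B
  obtain ⟨y, hy⟩ : ∃ y, a * y * a = a := by
    letI : ∀ I : MaximalSpectrum B, Field (B ⧸ I.asIdeal) := fun I => Ideal.Quotient.field I.asIdeal
    refine ⟨e.symm fun I => (e a I)⁻¹, e.injective ?_⟩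
    funext I
    simp only [map_mul, AlgEquiv.apply_symm_apply, Pi.mul_apply]
    by_cases h0 : e a I = 0
    · simp [h0]
    · rw [mul_inv_cancel₀ h0, one_mul]
  set f := LinearMap.mulLeft K (a * y)
  have hf : IsIdempotentElem f := LinearMap.ext fun z => by
    show a * y * (a * y * z) = a * y * z
    rw [show a * y * (a * y * z) = (a * y * a) * y * z by ring, hy]
  have ht : LinearMap.trace K B f = 0 := by
    have := h y
    rwa [Algebra.trace_apply] at this
  rw [(LinearMap.IsIdempotentElem.isProj_range f hf).trace, Nat.cast_eq_zero, Submodule.finrank_eq_zero,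
    LinearMap.range_eq_bot] at ht
  have h1 : a * y = 0 := by simpa [f] using LinearMap.congr_fun ht 1
  rw [← hy, h1, zero_mul]

theorem eq_zero_of_trace_mul_domain {A B : Type u} [CommRing A] [IsDomain A] [CharZero A] [CommRing B]
    [Algebra A B] [IsReduced B] {ι : Type} [Fintype ι] (b : Module.Basis ι A B) (a : B)
    (h : ∀ x, Algebra.trace A B (a * x) = 0) : a = 0 := by
  classical
  let K := FractionRing A
  haveI : CharZero K := charZero_of_injective_algebraMap (IsFractionRing.injective A K)
  let b' := Algebra.TensorProduct.basis K b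
  haveI : Module.Finite K (K ⊗[A] B) := Module.Finite.of_basis b'
  haveI : Module.Free A B := Module.Free.of_basis b
  haveI : Module.Finite A B := Module.Finite.of_basis b
  letI : Algebra B (K ⊗[A] B) := Algebra.TensorProduct.rightAlgebra
  haveI : IsLocalization (Algebra.algebraMapSubmonoid B A⁰) (K ⊗[A] B) :=
    IsLocalization.tensorRight (A := K) (S := B) A⁰
  haveI : IsReduced (K ⊗[A] B) := isReduced_localizationPreserves (Algebra.algebraMapSubmonoid B A⁰) _ inferInstance
  have hg : ∀ x, Algebra.trace K (K ⊗[A] B) ((1 : K) ⊗ₜ[A] x) = algebraMap A K (Algebra.trace A B x) := by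
    intro x
    rw [Algebra.trace_eq_matrix_trace b', Algebra.trace_eq_matrix_trace b, Matrix.trace, Matrix.trace, map_sum]
    refine Finset.sum_congr rfl fun i _ => ?_
    simp only [Matrix.diag_apply, Algebra.leftMulMatrix_eq_repr_mul, b', Algebra.TensorProduct.basis_apply,
      Algebra.TensorProduct.tmul_mul_tmul, mul_one, Algebra.TensorProduct.basis_repr_tmul]
    simp
  have h0 : ((1 : K) ⊗ₜ[A] a) = 0 := by
    refine eq_zero_of_trace_mul (K := K) _ fun z => ?_
    induction z using TensorProduct.induction_on with
    | zero => simp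
    | tmul c x =>
      have : ((1 : K) ⊗ₜ[A] a) * (c ⊗ₜ[A] x) = c • ((1 : K) ⊗ₜ[A] (a * x)) := by
        rw [Algebra.TensorProduct.tmul_mul_tmul, TensorProduct.smul_tmul', smul_eq_mul, one_mul, mul_one]
      rw [this, map_smul, hg, h, map_zero, smul_zero]
    | add z w hz hw => rw [mul_add, map_add, hz, hw, add_zero]
  refine b.ext_elem fun i => ?_
  rw [map_zero, Finsupp.zero_apply]
  refine IsFractionRing.injective A K ?_
  rw [map_zero]
  have := congr(b'.repr $h0 i)
  simpa [b', Algebra.TensorProduct.basis_repr_tmul] using this

end Groth.L04.TraceDeg
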