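import Groth.Agent.L04.TraceDeg.Algebra
import Groth.Agent.L12.FinCov.Dbl2
import Groth.Agent.L21.Weil.Isotriv
import Groth.Agent.L21.Bundle.Hom
import Groth.Agent.L05.Point.UnramFlat
import Groth.Prelude.Def_KoszTw

/-!
A finite flat cover with reduced generic fibre has direct image of nonpositive degree in characteristic zero.
-/

set_option autoImplicit false
set_option backward.isDefEq.respectTransparency false
set_option backward.isDefEq.respectTransparency.types false
set_option linter.style.haveILetI false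
set_option linter.unusedSectionVars false

universe u

open CategoryTheory CategoryTheory.Limits AlgebraicGeometry TopologicalSpace Opposite

noncomputable section

namespace Groth.L04.TraceDeg

open Groth.L12.FinCov

attribute [local instance] algS

variable {C Y : Scheme.{u}} (g : Y ⟶ C)

theorem injective_stalkMap_of_flat {Z : Scheme.{u}} (f : Z ⟶ Y) [Flat f] (z : Z) :
    Function.Injective (f.stalkMap z).hom := by
  have hf : (f.stalkMap z).hom.Flat := (Flat.iff_flat_stalkMap _).mp ‹_› z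
  algebraize [(f.stalkMap z).hom]
  haveI : IsLocalHom (algebraMap (Y.presheaf.stalk (f z)) (Z.presheaf.stalk z)) :=
    inferInstanceAs (IsLocalHom (f.stalkMap z).hom)
  haveI : Module.Flat (Y.presheaf.stalk (f z)) (Z.presheaf.stalk z) := hf
  haveI : Module.FaithfullyFlat (Y.presheaf.stalk (f z)) (Z.presheaf.stalk z) :=
    Module.FaithfullyFlat.of_flat_of_isLocalHom
  exact FaithfulSMul.algebraMap_injective (Y.presheaf.stalk (f z)) (Z.presheaf.stalk z)

theorem flat_fromSpecResidueField_generic [IsIntegral C] :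
    Flat (C.fromSpecResidueField (genericPoint C)) := by
  haveI := Groth.L05.Point.flat_fromSpecStalk (genericPoint C)
  haveI : IsIso (C.residue (genericPoint C)) := by
    letI : Field (C.presheaf.stalk (genericPoint C)) := inferInstanceAs (Field C.functionField)
    rw [ConcreteCategory.isIso_iff_bijective]
    exact ⟨(C.residue (genericPoint C)).hom.injective, C.residue_surjective _⟩
  unfold Scheme.fromSpecResidueField
  infer_instance

theorem isReduced_stalk_over_generic [IsIntegral C] (hred : AlgebraicGeometry.IsReduced (g.fiber (genericPoint C)))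
    (y : Y) (hy : g y = genericPoint C) : _root_.IsReduced (Y.presheaf.stalk y) := by
  haveI := hred
  haveI := flat_fromSpecResidueField_generic (C := C)
  haveI : Flat (g.fiberι (genericPoint C)) := MorphismProperty.pullback_fst _ _ ‹_›
  let z := (g.fiberHomeo (genericPoint C)).symm ⟨y, hy⟩
  have hz : g.fiberι (genericPoint C) z = y := g.fiberι_fiberHomeo_symm _ _
  have h := isReduced_of_injective _ (injective_stalkMap_of_flat (g.fiberι (genericPoint C)) z)
  rwa [hz] at h

theorem isReduced_sec [IsIntegral C] [IsFinite g] (hred : AlgebraicGeometry.IsReduced (g.fiber (genericPoint C)))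
    {n : ℕ} {V : C.Opens} [hne : Nonempty V] {b : Fin n → Sec (RelSpec.QCAlg.directImage g) V}
    (hb : GoodB (RelSpec.QCAlg.directImage g) V b) : _root_.IsReduced Γ(Y, g ⁻¹ᵁ V) := by
  refine ⟨fun x hx => ?_⟩
  let O : Set Y := {y | ∃ (W : Y.Opens) (h : W ≤ g ⁻¹ᵁ V), y ∈ W ∧ Y.presheaf.map (homOfLE h).op x = 0}
  have hO : IsOpen O := isOpen_iff_forall_mem_open.2 fun y ⟨W, h, hy, h0⟩ => ⟨W, fun z hz => ⟨W, h, hz, h0⟩, W.2, hy⟩
  have hη : genericPoint C ∈ V := ((genericPoint_spec C).mem_open_set_iff V.2).2 (by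
    obtain ⟨⟨v, hv⟩⟩ := hne
    exact ⟨v, trivial, hv⟩)
  have hfib : ∀ y, g y = genericPoint C → y ∈ O := fun y hy => by
    have hyV : y ∈ g ⁻¹ᵁ V := show g y ∈ V by rw [hy]; exact hη
    haveI := isReduced_stalk_over_generic g hred y hy
    have h0 : Y.presheaf.germ _ y hyV x = Y.presheaf.germ _ y hyV 0 := by
      rw [map_zero]
      exact (hx.map (Y.presheaf.germ _ y hyV).hom).eq_zero
    obtain ⟨W, hW, iU, iV, h⟩ := Y.presheaf.germ_eq y hyV hyV x 0 h0
    exact ⟨W, iU.le, hW, by rwa [map_zero] at h⟩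
  let D : C.Opens := V ⊓ ⟨(g '' Oᶜ)ᶜ, (g.isClosedMap _ hO.isClosed_compl).isOpen_compl⟩
  have hηD : genericPoint C ∈ D := ⟨hη, fun ⟨y, hy, hgy⟩ => hy (hfib y hgy)⟩
  haveI : Nonempty D := ⟨⟨_, hηD⟩⟩
  have hres : Y.presheaf.map (homOfLE (show g ⁻¹ᵁ D ≤ g ⁻¹ᵁ V from fun y hy => hy.1)).op x = 0 := by
    refine TopCat.Presheaf.section_ext Y.sheaf _ _ _ fun y hy => ?_
    obtain ⟨W, h, hyW, h0⟩ : y ∈ O := by
      by_contra h
      exact hy.2 ⟨y, h, rfl⟩
    erw [map_zero, TopCat.Presheaf.germ_res_apply]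
    show Y.presheaf.germ (g ⁻¹ᵁ V) y _ x = 0
    rw [← TopCat.Presheaf.germ_res_apply Y.presheaf (homOfLE h) y hyW]
    exact (congrArg (Y.presheaf.germ W y hyW).hom h0).trans (map_zero _)
  obtain ⟨c, hc⟩ := (hb V le_rfl).2 x
  have h1 := (hb D inf_le_left).1 (a₁ := fun i => rO inf_le_left (c i)) (a₂ := 0) (by
    simp only [Pi.zero_apply, zero_smul, Finset.sum_const_zero]
    refine Eq.trans ?_ hres
    rw [← hc]
    simp only [resA_self]
    show _ = resA _ inf_le_left _
    rw [map_sum]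
    exact Finset.sum_congr rfl fun i _ => (resA_smul _ _ _ _).symm)
  have hc0 : c = 0 := funext fun i =>
    map_injective_of_isIntegral C (homOfLE (inf_le_left : D ≤ V)) ((congrFun h1 i).trans (map_zero _).symm)
  rw [← hc, hc0]
  simp

variable [IsIntegral C] [IsFinite g] (k : Type u) [Field k] [CharZero k] [C.Over (Spec (CommRingCat.of k))]

local notation "𝒜" => RelSpec.QCAlg.directImage g

include k in
/-- Sections killed by the trace pairing vanish. -/
theorem eq_zero_of_trace (hA : FlatMod.IsFinLocFree (RelSpec.QCAlg.directImage g).toModule)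
    (hred : AlgebraicGeometry.IsReduced (g.fiber (genericPoint C)))
    {τ : (𝒜).toModule ⟶ Coh.structureModule C} (hτ : FinCov.IsTrace 𝒜 τ) (U : C.Opens) (a : Sec 𝒜 U)
    (h : ∀ (V : C.Opens) (hV : V ≤ U) (z : Sec 𝒜 V), tauV τ V (resA 𝒜 hV a * z) = 0) : a = 0 := by
  choose V hVaff hxV hVU hVb using fun x : U => exists_based hA x.1 U x.2
  refine TopCat.Sheaf.eq_of_locally_eq' Y.sheaf (fun x : U => g ⁻¹ᵁ V x) (g ⁻¹ᵁ U)
    (fun x => homOfLE (fun y hy => hVU x hy))
    (fun y hy => TopologicalSpace.Opens.mem_iSup.2 ⟨⟨g y, hy⟩, hxV ⟨g y, hy⟩⟩) a 0 fun x => ?_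
  obtain ⟨n, b, hb⟩ := hVb x
  haveI : Nonempty (V x) := ⟨⟨x.1, hxV x⟩⟩
  haveI : _root_.IsReduced (Sec 𝒜 (V x)) := isReduced_sec g hred hb
  haveI : CharZero Γ(C, V x) := charZero_of_injective_ringHom
    ((Scheme.ΓSpecIso (CommRingCat.of k)).inv ≫ (C ↘ Spec (CommRingCat.of k)).appLE ⊤ (V x) le_top).hom.injective
  erw [map_zero]
  exact eq_zero_of_trace_mul_domain (hb.basis le_rfl) (resA 𝒜 (hVU x) a) fun z =>
    (tauV_eq_tr hτ (hVaff x) ⟨n, b, hb⟩ _).symm.trans (h _ (hVU x) z)

theorem tensorMap_eq {X : Scheme.{u}} {M M' N N' : X.Modules} (f : M ⟶ M') (g : N ⟶ N') :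
    Groth.L00.Tensor.tensorMap f g = KoszTw.tensorMap f g :=
  (KoszTw.tensorMap_eq_sheafify f g).symm

include k in
/-- The trace pairing embeds the algebra in its dual. -/
theorem exists_mono_dual (hA : FlatMod.IsFinLocFree (RelSpec.QCAlg.directImage g).toModule)
    (hred : AlgebraicGeometry.IsReduced (g.fiber (genericPoint C)))
    [ModSite.HasSheafHom (O := C.sheaf) (𝒜).toModule] :
    ∃ φ : (𝒜).toModule ⟶ Groth.L17.Duality.dual (𝒜).toModule, Mono φ := by
  obtain ⟨τ, hτ⟩ := exists_isTrace hA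
  let E := (𝒜).toModule
  let sec : ∀ U, Γ(E, U) → Sec 𝒜 U := fun U s => s
  obtain ⟨m, hm⟩ := exists_hom_of_bilinear E (fun U a b => tauV τ U (sec U a * sec U b))
    (fun U a a' b => by show tauV τ U ((sec U a + sec U a') * sec U b) = _; rw [add_mul, map_add])
    (fun U a b b' => by show tauV τ U (sec U a * (sec U b + sec U b')) = _; rw [mul_add, map_add])
    (fun U r a b => by show tauV τ U ((r • sec U a) * sec U b) = _; rw [smul_mul_assoc, map_smul, smul_eq_mul])
    (fun U r a b => by show tauV τ U (sec U a * (r • sec U b)) = _; rw [mul_smul_comm, map_smul, smul_eq_mul])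
    (fun U V h a b => by
      show tauV τ V (resA 𝒜 h (sec U a) * resA 𝒜 h (sec U b)) = _
      rw [← map_mul, tauV_res])
  let adj := (ModSite.sheafHomAdj (O := C.sheaf) E).ofNatIsoLeft (Groth.L17.ChangeRings.tensorRightBiIso E).symm
  let φ := adj.homEquiv E (Coh.structureModule C) m
  refine ⟨φ, ?_⟩
  have h0 : Groth.L00.Tensor.tensorMap (kernel.ι φ) (𝟙 E) ≫ m = 0 := by
    refine (adj.homEquiv _ _).injective ?_
    refine (adj.homEquiv_naturality_left (kernel.ι φ) m).trans ((kernel.condition φ).trans ?_)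
    rw [Adjunction.homEquiv_unit, Functor.map_zero, comp_zero]
  have hι : kernel.ι φ = 0 := Groth.L12.FinCov.hom_ext fun U l => by
    refine eq_zero_of_trace g k hA hred hτ U _ fun V hV z => ?_
    have h1 := hm V ((Scheme.Modules.Hom.app (X := C) (M := kernel φ) (N := E) (kernel.ι φ) V) (rM (kernel φ) hV l)) z
    have h2 : bm E m V ((Scheme.Modules.Hom.app (X := C) (M := kernel φ) (N := E) (kernel.ι φ) V) (rM (kernel φ) hV l)) z = 0 := by
      have h3 := congr(($h0).app V (SecTwist.tmul (kernel φ) E V (rM (kernel φ) hV l) z))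
      rw [tensorMap_eq] at h3
      have h4 := KoszTw.tensorMap_tmul (kernel.ι φ) (𝟙 E) V (rM (kernel φ) hV l) z
      show m.app V (SecTwist.tmul E E V _ z) = 0
      refine Eq.trans ?_ h3
      exact congrArg (m.app V) h4.symm
    rw [h2] at h1
    refine Eq.trans ?_ h1.symm
    have h5 : resA 𝒜 hV (sec U (Scheme.Modules.Hom.app (X := C) (M := kernel φ) (N := E) (kernel.ι φ) U l)) =
        sec V (Scheme.Modules.Hom.app (X := C) (M := kernel φ) (N := E) (kernel.ι φ) V (rM (kernel φ) hV l)) :=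
      (app_rM (kernel.ι φ) hV l).symm
    exact congrArg (fun a : Sec 𝒜 V => tauV τ V (a * sec V z)) h5
  exact Preadditive.mono_of_isZero_kernel φ ((IsZero.iff_id_eq_zero _).2
    ((cancel_mono (kernel.ι φ)).1 (by rw [hι, comp_zero, comp_zero])))

open Groth.L21.Bundle in
/-- Degree of the direct image. -/
theorem deg_le_zero [IsAlgClosed k] [IsProper (C ↘ Spec (CommRingCat.of k))]
    [Smooth (C ↘ Spec (CommRingCat.of k))] (hdim : topologicalKrullDim C = 1)
    (hred : AlgebraicGeometry.IsReduced (g.fiber (genericPoint C))) (d : ℕ)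
    (hd : FlatMod.IsFinLocFreeOfRank d ((Coh.push g).obj (Coh.structureModule Y))) :
    Curv2.deg k C ((Coh.push g).obj (Coh.structureModule Y)) d ≤ 0 := by
  haveI := Groth.L21.RR.isNoetherian_of_proper (X := C) k
  have h0 := Groth.L21.RR.h0_eq_one_of_isAlgClosed (X := C) k
  have hA' : FlatMod.IsFinLocFreeOfRank d (𝒜).toModule := fun x => by
    obtain ⟨U, hx, ⟨e⟩⟩ := hd x
    exact ⟨U, hx, ⟨(Scheme.Modules.restrictFunctor U.ι).mapIso (Groth.L21.Weil.algIso g) ≪≫ e⟩⟩
  haveI := Groth.L17.Duality.hasSheafHom (𝒜).toModule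
  obtain ⟨φ, hφ⟩ := exists_mono_dual g k (Groth.L22.CurveDeg.isFinLocFree_of_rank hA') hred
  haveI := hφ
  have hD := isFinLocFreeOfRank_dual hA'
  have h1 := (dg_le_of_mono hdim.le k φ (isCoh_of_rank hA') (isCoh_of_rank hD) ((rk_eq hA').trans (rk_eq hD).symm)).1
  rw [dg_dual k hdim h0 hA'] at h1
  rw [dg_eq k hd, ← dg_iso k (Groth.L21.Weil.algIso g)]
  omega

end Groth.L04.TraceDeg
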